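import Groth.Agent.Lib.PinchModH7.Basis
import Groth.Agent.Lib.P1Split17.Basis
import Groth.Agent.Lib.ParaFDesc27.BigOpen
import Groth.Agent.Lib.ParaFDesc27.QcqsBC
import Groth.Agent.Lib.SerreCrit.Basic
import Groth.Agent.Lib.ModM1.Fpqc
import Groth.Agent.Lib.Descend.BaseChangeAt

set_option autoImplicit false
set_option linter.style.haveILetI false
set_option backward.isDefEq.respectTransparency false
set_option maxHeartbeats 1000000
universe u
open CategoryTheory CategoryTheory.Limits AlgebraicGeometry TopologicalSpace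
open scoped TensorProduct

namespace Groth.Agent.FreeFib18

open Groth.Agent M1 PinchModH7

variable {X Y S : Scheme.{u}}

theorem le_one_of_lt_two {d : WithBot ℕ∞} (h : d < 2) : d ≤ 1 := by
  induction d with
  | bot => exact bot_le
  | coe m =>
    induction m with
    | top => exact absurd h (by exact not_lt.2 le_top)
    | coe n =>
      have : n < 2 := by
        have h' : ((n : ℕ∞) : WithBot ℕ∞) < ((2 : ℕ∞) : WithBot ℕ∞) := h
        exact_mod_cast WithBot.coe_lt_coe.1 h'
      exact_mod_cast Nat.lt_succ_iff.1 this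

/-- A closed morphism with `O = α_* O` is surjective. -/
theorem surjective_of_isIso_app {X' X : Scheme.{u}} (α : X' ⟶ X) [UniversallyClosed α] (hα : ∀ V : X.Opens, IsIso (α.app V)) :
    Surjective α := by
  refine ⟨fun z => ?_⟩
  by_contra hz
  have hC : IsClosed (Set.range α) := α.isClosedMap.isClosed_range
  let V : X.Opens := ⟨_, hC.isOpen_compl⟩
  have hzV : z ∈ V := hz
  have he : α ⁻¹ᵁ V = ⊥ := by
    ext x
    simp only [Opens.coe_bot, Set.mem_empty_iff_false, iff_false]
    exact fun hx => hx ⟨x, rfl⟩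
  haveI : Subsingleton Γ(X', α ⁻¹ᵁ V) := by rw [he]; infer_instance
  haveI := hα V
  have h01 : (1 : Γ(X, V)) = 0 :=
    (ConcreteCategory.bijective_of_isIso (α.app V)).1 (Subsingleton.elim _ _)
  have := congrArg (X.presheaf.germ V z hzV) h01
  rw [map_one, map_zero] at this
  exact one_ne_zero this

theorem isBasisSec_of_isBas {M : X.Modules} {U : X.Opens} {r : ℕ} {e : Fin r → Γ(M, U)}
    (h : P1Split.IsBas M U e) : IsBasisSec e := fun _ hp => h.stalk hp

theorem bijective_comb_of_baseChange {A B M N : Type u} [CommRing A] [CommRing B] [Algebra A B]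
    [Module.FaithfullyFlat A B] [AddCommGroup M] [Module A M] [AddCommGroup N] [Module B N] [Module A N]
    [IsScalarTower A B N] {σ : M →ₗ[A] N} (hσ : IsBaseChange B σ) {n : ℕ} (m : Fin n → M)
    (h : Function.Bijective fun c : Fin n → B => ∑ i, c i • σ (m i)) :
    Function.Bijective fun c : Fin n → A => ∑ i, c i • m i := by
  classical
  let L := Fintype.linearCombination A m
  have h1 : ⇑hσ.equiv ∘ (⇑(L.baseChange B) ∘ ⇑(TensorProduct.piScalarRight A B B (Fin n)).symm) =
      fun c : Fin n → B => ∑ i, c i • σ (m i) := by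
    funext c
    simp only [Function.comp_apply]
    conv_lhs => rw [← Finset.univ_sum_single c]
    simp only [map_sum]
    refine Finset.sum_congr rfl fun i _ => ?_
    rw [TensorProduct.piScalarRight_symm_single, LinearMap.baseChange_tmul, hσ.equiv_tmul]
    simp [L, Fintype.linearCombination_apply_single]
  rw [← h1] at h
  have h2 : Function.Bijective (L.baseChange B) :=
    (Function.Bijective.of_comp_iff _ (LinearEquiv.bijective _)).1
      ((Function.Bijective.of_comp_iff' hσ.equiv.bijective _).1 h)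
  exact (Module.FaithfullyFlat.lTensor_bijective_iff_bijective A B L).1 h2

/-- Bases at stalks descend along flat maps. -/
theorem bijective_gcomb_of_pull (g : Y ⟶ X) [Flat g] {N : X.Modules} {V : X.Opens} {n : ℕ} (e : Fin n → Γ(N, V))
    {y : Y} {W : Y.Opens} (hle : W ≤ g ⁻¹ᵁ V) (hy : y ∈ W)
    (h : Function.Bijective (gcomb (fun i => ModLimH13.res' g N hle (e i)) hy)) :
    Function.Bijective (gcomb e (hle hy)) := by
  letI : Algebra (X.presheaf.stalk (g y)) (Y.presheaf.stalk y) := (g.stalkMap y).hom.toAlgebra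
  haveI : Module.Flat (X.presheaf.stalk (g y)) (Y.presheaf.stalk y) := Flat.stalkMap g y
  haveI : IsLocalHom (algebraMap (X.presheaf.stalk (g y)) (Y.presheaf.stalk y)) :=
    inferInstanceAs (IsLocalHom (g.stalkMap y).hom)
  haveI := Module.FaithfullyFlat.of_flat_of_isLocalHom (A := X.presheaf.stalk (g y)) (B := Y.presheaf.stalk y)
  refine bijective_comb_of_baseChange (M2.isBaseChange_stalkUnit g y N) _ ?_
  have key : ∀ i, M2.stalkUnitHom g y N (N.presheaf.germ V (g y) (hle hy) (e i)) =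
      ((Scheme.Modules.pullback g).obj N).presheaf.germ W y hy (ModLimH13.res' g N hle (e i)) := fun i =>
    (M2.stalkUnitHom_germ g y N (hle hy) (e i)).trans (germ_mres _ hle hy _).symm
  convert h using 1
  funext c
  exact Finset.sum_congr rfl fun i _ => congrArg _ (key i)

/-- Sections from a module on the local scheme come from neighbourhoods, up to units. -/
theorem exists_res'_fromSpecStalk (s : S) (G : S.Modules) [Coh.IsQCoh G]
    (v : Γ((Scheme.Modules.pullback (S.fromSpecStalk s)).obj G, ⊤)) :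
    ∃ (W : S.Opens) (_ : s ∈ W) (hle : (⊤ : (Spec (S.presheaf.stalk s)).Opens) ≤ S.fromSpecStalk s ⁻¹ᵁ W)
      (t : Γ(Spec (S.presheaf.stalk s), ⊤)) (σ : Γ(G, W)),
      IsUnit t ∧ t • v = ModLimH13.res' (S.fromSpecStalk s) G hle σ := by
  obtain ⟨W, hW, hsW, -⟩ := exists_isAffineOpen_mem_and_subset (x := s) (U := (⊤ : S.Opens)) trivial
  have hle : (⊤ : (Spec (S.presheaf.stalk s)).Opens) ≤ S.fromSpecStalk s ⁻¹ᵁ W := fun z _ =>
    ((Scheme.range_fromSpecStalk (X := S) (x := s)).le ⟨z, rfl⟩ : S.fromSpecStalk s z ⤳ s).mem_open W.isOpen hsW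
  obtain ⟨Φ, hΦ⟩ := ModLimH13.exists_pullEquiv (S.fromSpecStalk s) G hle hW (isAffineOpen_top _)
  let A := Γ(Spec (S.presheaf.stalk s), ⊤)
  let φ := (S.fromSpecStalk s).appLE W ⊤ hle
  letI : Algebra Γ(S, W) A := φ.hom.toAlgebra
  let σ₀ : S.presheaf.stalk s ≃+* A := (Scheme.ΓSpecIso (S.presheaf.stalk s)).commRingCatIsoToRingEquiv.symm
  letI := TopCat.Presheaf.algebra_section_stalk S.presheaf (⟨s, hsW⟩ : W)
  haveI := hW.isLocalization_stalk ⟨s, hsW⟩
  have hσ₀ : ∀ a, σ₀ (algebraMap Γ(S, W) (S.presheaf.stalk s) a) = φ a := fun a => by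
    have h := Scheme.fromSpecStalk_app (X := S) (x := s) hsW
    show (Scheme.ΓSpecIso (S.presheaf.stalk s)).inv (S.presheaf.germ W s hsW a) =
      (S.fromSpecStalk s).appLE W ⊤ hle a
    rw [Scheme.Hom.appLE, h]
    simp only [CommRingCat.comp_apply]
    rw [← CommRingCat.comp_apply ((Spec (S.presheaf.stalk s)).presheaf.map _), ← Functor.map_comp,
      Subsingleton.elim (_ ≫ _) (𝟙 (Opposite.op (⊤ : (Spec (S.presheaf.stalk s)).Opens))), CategoryTheory.Functor.map_id]
    rfl
  let P := (hW.primeIdealOf ⟨s, hsW⟩).asIdeal.primeCompl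
  haveI : IsLocalization P A := IsLocalization.isLocalization_of_algEquiv P
    (AlgEquiv.ofRingEquiv (R := Γ(S, W)) (f := σ₀) hσ₀)
  obtain ⟨w, rfl⟩ := Φ.surjective v
  obtain ⟨⟨m, t⟩, hmt⟩ := IsLocalizedModule.surj P (TensorProduct.mk Γ(S, W) A Γ(G, W) 1) w
  refine ⟨W, hsW, hle, φ t.1, m, IsLocalization.map_units A t, ?_⟩
  rw [← map_smul]
  refine (congrArg Φ ?_).trans ((hΦ 1 m).trans (one_smul _ _))
  exact (algebraMap_smul A t.1 w).trans hmt

theorem isUnit_iff_mulVec_bijective {R : Type u} [CommRing R] {n : ℕ} (M : Matrix (Fin n) (Fin n) R) :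
    Function.Bijective M.mulVec ↔ IsUnit M := by
  refine ⟨fun h => Matrix.mulVec_surjective_iff_isUnit.1 h.2, fun h => ?_⟩
  have hs := Matrix.mulVec_surjective_iff_isUnit.2 h
  exact ⟨OrzechProperty.injective_of_surjective_endomorphism M.mulVecLin hs, hs⟩

theorem isOpen_gcomb {N : X.Modules} (hN : FlatMod.IsFinLocFree N) {V : X.Opens} {n : ℕ} (e : Fin n → Γ(N, V)) :
    IsOpen {x : X | ∃ hx : x ∈ V, Function.Bijective (gcomb e hx)} := by
  refine isOpen_iff_forall_mem_open.2 fun x ⟨hx, hb⟩ => ?_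
  obtain ⟨D, m, d, hxD, hd⟩ := exists_basisSec hN x
  let Z := V ⊓ D
  choose a ha using fun i => hd.exists_comb (inf_le_right : Z ≤ D) (mres N (inf_le_left : Z ≤ V) (e i))
  let mat : ∀ (z : X) (hz : z ∈ Z), (Fin n → X.presheaf.stalk z) →ₗ[X.presheaf.stalk z] (Fin m → X.presheaf.stalk z) :=
    fun z hz => Fintype.linearCombination (X.presheaf.stalk z) fun i j => X.presheaf.germ Z z hz (a i j)
  have key : ∀ (z : X) (hz : z ∈ Z) (c : Fin n → X.presheaf.stalk z),
      gcomb e hz.1 c = gcomb d hz.2 (mat z hz c) := fun z hz c => by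
    simp only [gcomb, mat, Fintype.linearCombination_apply, Finset.sum_apply, Pi.smul_apply, smul_eq_mul,
      Finset.sum_smul, mul_smul]
    rw [Finset.sum_comm]
    refine Finset.sum_congr rfl fun i _ => ?_
    rw [← Finset.smul_sum]
    congr 1
    have := congrArg (N.presheaf.germ Z z hz) (ha i)
    rw [germ_comb, germ_mres] at this
    exact this.symm
  have hiff : ∀ (z : X) (hz : z ∈ Z), Function.Bijective (gcomb e hz.1) ↔ Function.Bijective (mat z hz) := fun z hz => by
    rw [show gcomb e hz.1 = gcomb d hz.2 ∘ mat z hz from funext (key z hz), (hd z hz.2).of_comp_iff']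
  have hxZ : x ∈ Z := ⟨hx, hxD⟩
  have hm : n = m := by
    simpa using (LinearEquiv.ofBijective _ ((hiff x hxZ).1 hb)).finrank_eq
  subst hm
  let M : Matrix (Fin n) (Fin n) Γ(X, Z) := Matrix.of fun j i => a i j
  have hmat : ∀ (z : X) (hz : z ∈ Z), Function.Bijective (mat z hz) ↔ z ∈ X.basicOpen M.det := fun z hz => by
    rw [Scheme.mem_basicOpen X M.det z hz, RingHom.map_det, ← Matrix.isUnit_iff_isUnit_det,
      ← isUnit_iff_mulVec_bijective]
    rw [show ⇑(mat z hz) = ((X.presheaf.germ Z z hz).hom.mapMatrix M).mulVec from funext fun c => funext fun j => by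
      simp [mat, M, Matrix.mulVec, dotProduct, Fintype.linearCombination_apply, mul_comm]]
  refine ⟨X.basicOpen M.det, fun z hz => ?_, (X.basicOpen M.det).isOpen, (hmat x hxZ).1 ((hiff x hxZ).1 hb)⟩
  exact ⟨(X.basicOpen_le M.det hz).1, (hiff z (X.basicOpen_le M.det hz)).2 ((hmat z (X.basicOpen_le M.det hz)).2 hz)⟩

/-- Freeness over the local scheme spreads to a neighbourhood. -/
theorem exists_nhd_basis (f : X ⟶ S) [IsProper f] {E : X.Modules} (hE : FlatMod.IsFinLocFree E) (s : S) (r : ℕ)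
    (iso : (Scheme.Modules.pullback (pullback.fst f (S.fromSpecStalk s))).obj E ≅
      FlatMod.freeMod (pullback f (S.fromSpecStalk s)) r) :
    ∃ (W : S.Opens) (e : Fin r → Γ(E, f ⁻¹ᵁ W)), s ∈ W ∧ IsBasisSec e := by
  classical
  haveI : Coh.IsQCoh E := M2.isQCoh_of_isFinLocFree hE
  let ι := S.fromSpecStalk s
  let q := pullback.fst f ι
  let fs := pullback.snd f ι
  haveI : Flat ι := Descend.flat_fromSpecStalk s
  haveI : Flat q := inferInstance
  have hsq : IsPullback q fs f ι := IsPullback.of_hasPullback _ _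
  let G := (Scheme.Modules.pushforward f).obj E
  haveI : Coh.IsQCoh G := M1.isQCoh_push f inferInstance
  haveI := ParaFDesc27.isIso_bc0_of_flat hsq E
  let ψ := CohBC.bc0 f ι fs q hsq.w E
  have hb := (P1Split.isBas_coprod (fun _ : Fin r => Coh.structureModule (pullback f ι)) (fun _ => one ⊤)
    fun _ => P1Split.isGen_one ⊤).map_iso iso.symm
  let b : Fin r → Γ((Scheme.Modules.pullback q).obj E, ⊤) := fun i => iso.inv.app ⊤
    ((Sigma.ι (fun _ : Fin r => Coh.structureModule (pullback f ι)) i).app ⊤ (one ⊤))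
  have hψ : Function.Bijective (ψ.app ⊤) :=
    (ConcreteCategory.isIso_iff_bijective _).1 (Scheme.Modules.Hom.isIso_iff_isIso_app.1 inferInstance ⊤)
  choose v hv using fun i => hψ.2 (b i)
  choose Wi hsi hlei t σ ht hσ using fun i => exists_res'_fromSpecStalk s G (v i)
  let W : S.Opens := ⟨⋂ i, (Wi i : Set S), isOpen_iInter_of_finite fun i => (Wi i).2⟩
  have hsW : s ∈ W := Set.mem_iInter.2 hsi
  have hWle : ∀ i, W ≤ Wi i := fun i z hz => Set.mem_iInter.1 hz i
  have hle : (⊤ : (Spec (S.presheaf.stalk s)).Opens) ≤ ι ⁻¹ᵁ W := fun z hz => Set.mem_iInter.2 fun i => hlei i hz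
  let e : Fin r → Γ(E, f ⁻¹ᵁ W) := fun i => mres G (hWle i) (σ i)
  have eZ : fs ⁻¹ᵁ (⊤ : (Spec (S.presheaf.stalk s)).Opens) ≤ q ⁻¹ᵁ (f ⁻¹ᵁ W) := fun x _ => by
    show f (q x) ∈ W
    rw [← Scheme.Hom.comp_apply, hsq.w, Scheme.Hom.comp_apply]
    exact hle trivial
  have he : ∀ i, ModLimH13.res' q E eZ (e i) = (show Γ(pullback f ι, ⊤) from fs.app ⊤ (t i)) • b i := fun i => by
    rw [← ParaFDesc27.bc0_res' hsq.w E hle (mres G (hWle i) (σ i)) eZ, ModLimH13.res'_mres,
      ← hσ i, Scheme.Modules.Hom.app_smul, hv]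
    rfl
  have hsub : ∀ x : X, f x = s → ∃ hx : x ∈ f ⁻¹ᵁ W, Function.Bijective (gcomb e hx) := by
    intro x hx
    obtain ⟨z, hz, -⟩ := Scheme.exists_preimage_of_isPullback hsq x (IsLocalRing.closedPoint (S.presheaf.stalk s))
      (hx.trans Scheme.fromSpecStalk_closedPoint.symm)
    subst hz
    refine ⟨eZ trivial, bijective_gcomb_of_pull q e eZ (show z ∈ fs ⁻¹ᵁ ⊤ from trivial) ?_⟩
    let u : Fin r → ((pullback f ι).presheaf.stalk z)ˣ := fun i =>
      ((((ht i).map (fs.app ⊤).hom)).map ((pullback f ι).presheaf.germ (fs ⁻¹ᵁ ⊤) z trivial).hom).unit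
    have : gcomb (fun i => ModLimH13.res' q E eZ (e i)) (show z ∈ fs ⁻¹ᵁ ⊤ from trivial) =
        gcomb b (show z ∈ (⊤ : (pullback f ι).Opens) from trivial) ∘ (Equiv.piCongrRight fun i => (u i).mulRight) := by
      funext c
      simp only [gcomb, Function.comp_apply, Equiv.piCongrRight_apply, Units.mulRight_apply, he, germ_smul]
      refine Finset.sum_congr rfl fun i _ => ?_
      rw [smul_smul]
      rfl
    rw [this]
    exact (isBasisSec_of_isBas hb z trivial).comp (Equiv.bijective _)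
  let T := {x : X | ∃ hx : x ∈ f ⁻¹ᵁ W, Function.Bijective (gcomb e hx)}
  have hcl : IsClosed (f '' Tᶜ) := f.isClosedMap _ (isOpen_gcomb hE e).isClosed_compl
  let W' : S.Opens := W ⊓ ⟨(f '' Tᶜ)ᶜ, hcl.isOpen_compl⟩
  refine ⟨W', fun i => mres E (f.preimage_mono (inf_le_left : W' ≤ W)) (e i), ⟨hsW, ?_⟩, fun x hx => ?_⟩
  · rintro ⟨x, hx, hfx⟩
    exact hx (hsub x hfx)
  · have hxT : x ∈ T := by
      by_contra hn
      exact hx.2 ⟨x, hn, rfl⟩
    obtain ⟨_, hb'⟩ := hxT
    have : gcomb (fun i => mres E (f.preimage_mono (inf_le_left : W' ≤ W)) (e i)) hx =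
        gcomb e (show x ∈ f ⁻¹ᵁ W from hx.1) := funext fun c => by
      simp only [gcomb, germ_mres]
    rw [this]
    exact hb'

theorem resBij_of_basis {U D : X.Opens} (hU : ParaF27.RB U) {M : X.Modules} {n : ℕ} {e : Fin n → Γ(M, D)}
    (he : IsBasisSec e) {Z : X.Opens} (hZ : Z ≤ D) : ParaF27.ResBij U M Z := by
  have h : ∀ (W : X.Opens) (hW : W ≤ D), Function.Bijective (comb e hW) := fun W hW =>
    ⟨he.comb_injective hW, he.exists_comb hW⟩
  show Function.Bijective (mres M (inf_le_left : Z ⊓ U ≤ Z))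
  refine ((h Z hZ).of_comp_iff _).1 ?_
  rw [show ⇑(mres M (inf_le_left : Z ⊓ U ≤ Z)) ∘ comb e hZ = comb e ((inf_le_left : Z ⊓ U ≤ Z).trans hZ) ∘
    (fun (c : Fin n → Γ(X, Z)) i => ores (inf_le_left : Z ⊓ U ≤ Z) (c i)) from funext fun c => mres_comb hZ _ c]
  exact (h _ _).comp (Equiv.piCongrRight fun _ => Equiv.ofBijective _ (hU Z)).bijective

theorem rb_of_depth [IsLocallyNoetherian X] (V : X.Opens)
    (hV : ∀ x : X, x ∉ V → (2 : ℕ∞) ≤ LocCoh.depth (X.presheaf.stalk x) (X.presheaf.stalk x)) : ParaF27.RB V := by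
  refine fun W => S1575.result X (Coh.structureModule X) (M1.isCoh_structureModule X) V (fun x hx => ?_) W
  have e := DepthLib.idealDepth_congr (I := IsLocalRing.maximalIdeal (X.presheaf.stalk x)) (LinearEquiv.ofBijective
    (LinearMap.toSpanSingleton (X.presheaf.stalk x) ((Coh.structureModule X).presheaf.stalk x)
      ((Coh.structureModule X).presheaf.germ ⊤ x trivial (one ⊤)))
    (Cyc26.structureModule_stalk_bijective x))
  exact (hV x hx).trans_eq e

theorem app_counit_pullSec (f : X ⟶ S) (E : X.Modules) {W : S.Opens} (σ : Γ(E, f ⁻¹ᵁ W)) :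
    ((Scheme.Modules.pullbackPushforwardAdjunction f).counit.app E).app (f ⁻¹ᵁ W)
      (M2.pullSec f ((Scheme.Modules.pushforward f).obj E) σ) = σ :=
  congrArg (fun φ => φ.app W σ) ((Scheme.Modules.pullbackPushforwardAdjunction f).right_triangle_components E)

theorem isBasisSec_push (f : X ⟶ S) (hO : ∀ U : S.Opens, Function.Bijective (f.app U).hom) {E : X.Modules}
    {W : S.Opens} {n : ℕ} {e : Fin n → Γ(E, f ⁻¹ᵁ W)} (he : IsBasisSec e) :
    IsBasisSec (N := (Scheme.Modules.pushforward f).obj E) (V := W) e := by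
  refine isBasisSec_of_isBas fun V hV => ?_
  have hb : Function.Bijective (comb e (f.preimage_mono hV)) :=
    ⟨he.comb_injective (f.preimage_mono hV), he.exists_comb (f.preimage_mono hV)⟩
  exact hb.comp (Equiv.piCongrRight fun _ => Equiv.ofBijective _ (hO V)).bijective

theorem exists_pullback_finLocFree (f : X ⟶ S) [Flat f] [IsProper f]
    (hO : ∀ U : S.Opens, Function.Bijective (f.app U).hom) [IsNoetherian S] (hS : Pi1.IsNormalScheme S)
    (E : X.Modules) (hE : FlatMod.IsFinLocFree E)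
    (h1 : ∀ s : S, ringKrullDim (S.presheaf.stalk s) ≤ 1 → ∃ r : ℕ,
      Nonempty ((Scheme.Modules.pullback (pullback.fst f (S.fromSpecStalk s))).obj E ≅
        FlatMod.freeMod (pullback f (S.fromSpecStalk s)) r)) :
    ∃ G : S.Modules, FlatMod.IsFinLocFree G ∧ Nonempty (E ≅ (Scheme.Modules.pullback f).obj G) := by
  haveI : IsLocallyNoetherian X := LocallyOfFiniteType.isLocallyNoetherian f
  haveI : Coh.IsQCoh E := M2.isQCoh_of_isFinLocFree hE
  let U : S.Opens := ⟨{s | ∃ (W : S.Opens) (n : ℕ) (e : Fin n → Γ(E, f ⁻¹ᵁ W)), s ∈ W ∧ IsBasisSec e},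
    isOpen_iff_forall_mem_open.2 fun _ ⟨W, n, e, hs, he⟩ => ⟨W, fun _ hz => ⟨W, n, e, hz, he⟩, W.isOpen, hs⟩⟩
  have hdepth : ∀ x : S, x ∉ U → (2 : ℕ∞) ≤ LocCoh.depth (S.presheaf.stalk x) (S.presheaf.stalk x) := fun x hx => by
    haveI := (hS x).1
    haveI := (hS x).2
    refine SerreCrit.two_le_depth_of_normal _ ?_
    by_contra hd
    have hle : ringKrullDim (S.presheaf.stalk x) ≤ 1 :=
      le_one_of_lt_two (lt_of_not_ge hd)
    obtain ⟨r, ⟨iso⟩⟩ := h1 x hle
    obtain ⟨W, e, hxW, he⟩ := exists_nhd_basis f hE x r iso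
    exact hx ⟨W, r, e, hxW, he⟩
  let G := (Scheme.Modules.pushforward f).obj E
  haveI : Coh.IsQCoh G := M1.isQCoh_push f inferInstance
  let η : (Scheme.Modules.pullback f).obj G ⟶ E := (Scheme.Modules.pullbackPushforwardAdjunction f).counit.app E
  let U' := f ⁻¹ᵁ U
  have hrbX : ParaF27.RB U' := rb_of_depth U' fun x hx => ParaFDesc27.two_le_depth_of_flat f x (hdepth _ hx)
  have hresE : ∀ Z : X.Opens, ParaF27.ResBij U' E Z := ParaF27.resBij_of_local fun x => by
    obtain ⟨D, n, e, hxD, he⟩ := exists_basisSec hE x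
    exact ⟨D, hxD, fun Z hZ => resBij_of_basis hrbX he hZ⟩
  haveI : IsIso ((Scheme.Modules.restrictAdjunction U'.ι).unit.app E) :=
    ParaF27.isIso_unit_of_resBij U'.ι (by rw [Scheme.Opens.opensRange_ι]; exact hresE)
  haveI : IsIso ((Scheme.Modules.restrictAdjunction U.ι).unit.app G) :=
    ParaF27.isIso_unit_of_resBij U.ι (by
      rw [Scheme.Opens.opensRange_ι]
      exact fun W => hresE (f ⁻¹ᵁ W))
  have hη : ∀ x ∈ U', Function.Bijective ((M1.stalkAb x).map η) := fun x hx => by
    obtain ⟨W, n, e, hxW, he⟩ := hx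
    have hG := (isBasisSec_push f hO he).pull f (le_refl (f ⁻¹ᵁ W)) x hxW
    let ηx := RefHull.stalkMapₗ η x
    have key : ∀ c, ηx (gcomb (fun i => ModLimH13.res' f G (le_refl (f ⁻¹ᵁ W)) (e i)) hxW c) = gcomb e hxW c :=
      fun c => by
        simp only [gcomb, map_sum, map_smul]
        refine Finset.sum_congr rfl fun i _ => ?_
        congr 1
        refine (RefHull.stalkMapₗ_germ η x hxW _).trans ?_
        rw [ModLimH13.res', mres_id]
        exact congrArg (E.presheaf.germ _ x hxW) (app_counit_pullSec f E (e i))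
    show Function.Bijective ηx
    refine (hG.of_comp_iff _).1 ?_
    rw [show ⇑ηx ∘ _ = _ from funext key]
    exact he x hxW
  haveI : IsIso ((Scheme.Modules.restrictFunctor U'.ι).map η) := by
    refine (M1.isIso_iff_stalk _).2 fun z => ?_
    let e := Scheme.Modules.restrictStalkNatIso U'.ι z
    have hf : IsIso ((M1.stalkAb z.1).map η) := (ConcreteCategory.isIso_iff_bijective _).2 (hη z.1 z.2)
    exact (ConcreteCategory.isIso_iff_bijective _).1 ((NatIso.isIso_map_iff e η).2 hf)
  let adjU := Scheme.Modules.restrictAdjunction U.ι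
  let adj' := Scheme.Modules.restrictAdjunction U'.ι
  let L := (Scheme.Modules.restrictFunctor U.ι).obj G
  haveI : Coh.IsQCoh L := M1.isQCoh_restrict inferInstance U.ι
  have hsq := isPullback_morphismRestrict f U
  haveI := ParaFDesc27.isIso_bc0_of_flat hsq L
  let j : (Scheme.Modules.pullback f).obj G ≅
      (Scheme.Modules.pushforward U'.ι).obj ((Scheme.Modules.pullback (f ∣_ U)).obj L) :=
    (Scheme.Modules.pullback f).mapIso (asIso (adjU.unit.app G)) ≪≫ asIso (CohBC.bc0 U.ι f U'.ι (f ∣_ U) hsq.w L)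
  haveI : IsIso (adj'.unit.app ((Scheme.Modules.pushforward U'.ι).obj ((Scheme.Modules.pullback (f ∣_ U)).obj L))) :=
    inferInstance
  haveI : IsIso (adj'.unit.app ((Scheme.Modules.pullback f).obj G)) := (NatTrans.isIso_app_iff_of_iso adj'.unit j).2 inferInstance
  haveI : IsIso η := by
    have hnat := adj'.unit.naturality η
    haveI : IsIso ((Scheme.Modules.restrictFunctor U'.ι ⋙ Scheme.Modules.pushforward U'.ι).map η) :=
      Functor.map_isIso (Scheme.Modules.pushforward U'.ι) _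
    have h2 : IsIso (η ≫ adj'.unit.app E) := by
      rw [show η ≫ adj'.unit.app E = _ from hnat]
      infer_instance
    exact IsIso.of_isIso_comp_right η (adj'.unit.app E)
  haveI : Surjective f := surjective_of_isIso_app f fun V =>
    (ConcreteCategory.isIso_iff_bijective _).2 (hO V)
  exact ⟨G, M1.isFinLocFree_of_pullback_fpqc f inferInstance (M2.isFinLocFree_of_iso (asIso η).symm hE),
    ⟨(asIso η).symm⟩⟩

end Groth.Agent.FreeFib18
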